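import Cfsg.Agent.Lib.Cert.He.M
import Cfsg.Agent.Lib.Cert.S44.X
import Cfsg.Agent.Lib.Cert.Emb

set_option autoImplicit false
set_option maxRecDepth 100000

namespace Cfsg.Agent.Ct.He

open Cfsg.Agent.PC

open Cfsg.Agent.Fi Cfsg.Agent.Ct
def aW_t : TL := (TL.node (TL.node (TL.node (TL.leaf [nat_lit 1, nat_lit 2, nat_lit 4, nat_lit 2, nat_lit 3, nat_lit 6, nat_lit 1, nat_lit 2, nat_lit 1, nat_lit 2, nat_lit 4, nat_lit 6, nat_lit 6, nat_lit 4, nat_lit 2, nat_lit 1, nat_lit 2, nat_lit 3]) (TL.leaf [nat_lit 2, nat_lit 6, nat_lit 4, nat_lit 3, nat_lit 2, nat_lit 1, nat_lit 2, nat_lit 3, nat_lit 4, nat_lit 6, nat_lit 4, nat_lit 2, nat_lit 0, nat_lit 3, nat_lit 2, nat_lit 1, nat_lit 2, nat_lit 3, nat_lit 2, nat_lit 1, nat_lit 3, nat_lit 6, nat_lit 6, nat_lit 2, nat_lit 1, nat_lit 2, nat_lit 4, nat_lit 6, nat_lit 4, nat_lit 2, nat_lit 1, nat_lit 2, nat_lit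 4, nat_lit 3, nat_lit 6])) (TL.node (TL.leaf [nat_lit 3, nat_lit 2, nat_lit 1, nat_lit 5, nat_lit 6, nat_lit 6, nat_lit 2, nat_lit 4, nat_lit 6, nat_lit 2, nat_lit 1, nat_lit 2, nat_lit 3, nat_lit 1, nat_lit 4, nat_lit 2, nat_lit 3, nat_lit 4, nat_lit 2, nat_lit 1, nat_lit 2, nat_lit 6, nat_lit 3, nat_lit 5]) (TL.leaf [nat_lit 2, nat_lit 1, nat_lit 2, nat_lit 3, nat_lit 6, nat_lit 6, nat_lit 4, nat_lit 2, nat_lit 3, nat_lit 6, nat_lit 4, nat_lit 6, nat_lit 4, nat_lit 1, nat_lit 2, nat_lit 0]))) (TL.node (TL.node (TL.leaf [nat_lit 3, nat_lit 2, nat_lit 1, nat_lit 5, nat_lit 6, nat_lit 6, nat_lit 2, nat_lit 4, nat_lit 6, nat_lit 2, nat_lit 1, nat_lit 2, nat_lit 6, nat_lit 0, nat_lit 5, nat_lit 6, nat_lit 3, nat_lit 2, nat_lit 1, nat_lit 4, nat_lit 2, nat_lit 1, nat_lit 4, nat_lit 6, nat_lit 6]) (TL.leaf [nat_lit 2, nat_lit 4, nat_lit 2, nat_lit 3,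 nat_lit 2, nat_lit 1, nat_lit 6, nat_lit 6, nat_lit 4, nat_lit 2, nat_lit 3, nat_lit 1, nat_lit 4, nat_lit 0, nat_lit 2, nat_lit 3, nat_lit 6, nat_lit 6, nat_lit 4, nat_lit 2])) (TL.leaf [nat_lit 2, nat_lit 1, nat_lit 2, nat_lit 3, nat_lit 6, nat_lit 6, nat_lit 4, nat_lit 2, nat_lit 3, nat_lit 6, nat_lit 4, nat_lit 6, nat_lit 6, nat_lit 2, nat_lit 1, nat_lit 2, nat_lit 3, nat_lit 2, nat_lit 1, nat_lit 5, nat_lit 6, nat_lit 6, nat_lit 2, nat_lit 4, nat_lit 6, nat_lit 1, nat_lit 2, nat_lit 3, nat_lit 2, nat_lit 6, nat_lit 1, nat_lit 4, nat_lit 2, nat_lit 4, nat_lit 5])))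
noncomputable def aW (i : ℕ) : List ℕ := TL.get aW_t i
theorem aq : Pr S44.al S44.inv S44.rels 7 := ⟨S44.simple, S44.ctr, S44.top, S44.ub, S44.iv, S44.rl, by decide +kernel⟩
theorem ae : ∃ φ : S44.P →* Cfsg.Spor.He, Function.Injective φ ∧ φ.range ≤ gen ga 7 :=
  (md0).emb aq (W := aW) (by decide) (by decide +kernel) (by decide +kernel) (by decide +kernel) (by decide +kernel)

end Cfsg.Agent.Ct.He
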