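import Cfsg.Agent.Lib.Cert.Mod
import Cfsg.Agent.Lib.PermCert.PL
import Cfsg.Agent.Lib.Cert.He.T7.Cl

set_option autoImplicit false
set_option maxRecDepth 100000

namespace Cfsg.Agent.Ct.He

open Cfsg.Agent.PC

open Cfsg.Agent.Fi Cfsg.Agent.Ct
namespace W0
def rels : List (List ℕ) := [[nat_lit 4, nat_lit 6, nat_lit 4, nat_lit 6, nat_lit 4, nat_lit 6, nat_lit 4, nat_lit 6], [nat_lit 4, nat_lit 5, nat_lit 4, nat_lit 5], [nat_lit 4, nat_lit 3, nat_lit 4, nat_lit 3], [nat_lit 4, nat_lit 2, nat_lit 4, nat_lit 2], [nat_lit 4, nat_lit 0, nat_lit 4, nat_lit 0], [nat_lit 4, nat_lit 1, nat_lit 4, nat_lit 1], [nat_lit 6, nat_lit 5, nat_lit 6, nat_lit 5, nat_lit 6, nat_lit 5], [nat_lit 6, nat_lit 3, nat_lit 6, nat_lit 3], [nat_lit 6, nat_lit 2, nat_lit 6, nat_lit 2], [nat_lit 6, nat_lit 0, nat_lit 6, nat_lit 0], [nat_lit 6, nat_lit 1, nat_lit 6, nat_lit 1], [nat_lit 5, nat_lit 3, nat_lit 5, nat_lit 3, nat_lit 5, nat_lit 3, nat_lit 5, nat_lit 3, nat_lit 5, nat_lit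 3, nat_lit 5, nat_lit 3, nat_lit 5, nat_lit 3, nat_lit 5, nat_lit 3, nat_lit 5, nat_lit 3, nat_lit 5, nat_lit 3], [nat_lit 5, nat_lit 2, nat_lit 5, nat_lit 2], [nat_lit 5, nat_lit 0, nat_lit 5, nat_lit 0], [nat_lit 5, nat_lit 1, nat_lit 5, nat_lit 1], [nat_lit 3, nat_lit 2, nat_lit 3, nat_lit 2, nat_lit 3, nat_lit 2], [nat_lit 3, nat_lit 0, nat_lit 3, nat_lit 0, nat_lit 3, nat_lit 0], [nat_lit 3, nat_lit 1, nat_lit 3, nat_lit 1, nat_lit 3, nat_lit 1], [nat_lit 2, nat_lit 0, nat_lit 2, nat_lit 0], [nat_lit 2, nat_lit 1, nat_lit 2, nat_lit 1], [nat_lit 0, nat_lit 1, nat_lit 0, nat_lit 1, nat_lit 0, nat_lit 1, nat_lit 0, nat_lit 1], [nat_lit 2, nat_lit 1, nat_lit 0, nat_lit 1, nat_lit 0], [nat_lit 2, nat_lit 5, nat_lit 6, nat_lit 4, nat_lit 5, nat_lit 6, nat_lit 4, nat_lit 5, nat_lit 6, nat_lit 4], [nat_lit 4, nat_lit 3, nat_lit 5, nat_lit 3, nat_lit 5, nat_lit 3, nat_lit 5, nat_lit 3, nat_lit 5, nat_lit 3, nat_lit 5], [nat_lit 1, nat_lit 0, nat_lit 3,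 nat_lit 5, nat_lit 1, nat_lit 0, nat_lit 3, nat_lit 5, nat_lit 1, nat_lit 0, nat_lit 3, nat_lit 5, nat_lit 1, nat_lit 0, nat_lit 3, nat_lit 5]]
def F_t : TN := (TN.node (TN.leaf (nat_lit 0x40476474068999499894737f67f7365e616615e65b696695b642456454268c925928c576874877645a6a46a5a44146446414797e57e7955a695695a5414554541582924928245d744745d46d7e47e6d45971271592576b26b57256692695623f5c45c3f43e583583e3404c24c4023d472473d23c452453c296a03a0963728538572353674675344d663664d337552553723650250362354f24f352233b43b23422363362232430230242222b22b222212a22a2128c9c39c8c38293393823232d32d23395a13a19537c8f38f7c36e812816e2697f37f693556f36f55349632634924561361453334e44e334304a34a3031d342341d21c322321c21b312311b217294291740f204200f40e1c31c0e310182181020e162160e20d152150d2909e69e9067083683706516a66a5164b646644b62c466462c61f386381f61225625126091331309394a02a0942909f49f9048e9d39d8e3819439481376882887627084484704637b37b6336078278602536c26c532516b46b5144f683684f34b654654b43859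45938434543543432e482482e22c474472c42a443442a325404402541f394391f41a314311a4182f32f183142822814212264261240b1a21a0b20a192190a20815415084040d40d044030a30a0330408208042030720703294a14a194493a06a09368f9f59f8f58e9e59e8e58d9d69d8d68b9c29c8b2899b59b895889a39a88387993998738698398863859759785582966968268195495814809469480680932938027e922927e27d913917d37b905907b57b8f48f7b47a8e68e7a67a8d38d7a3798c28c792788b38b783778a38a77376893897637588588755748758774573865867356f856856f66f845846f56e835836e56d822826d26c816816c66c803806c3687f47f684677e37e673667d57d665637c47c634627b67b626627a57a62560793796035f785785f55e775775e55d765765d55d752755d25c743745c35b733735b3557267255655715715555470570545546f46f544536e66e536536d36d533526c56c525506b56b5054f6a56a4f54f694694f44e686684e64e675674e54a666664a64a655654a549645644954863663486486236248344614614444360560435435f25f432425e35e4233f5d35d3f33b5c55c3b53a5b55b3a5395a65a39637595593753658658366365755736535564563543455455344335465433633535533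35335225233232515513253250450324314f64f316314e34e313304d64d306304c54c3052f4b54b2f52f4a44a2f42e496492e62d485482d52b475472b52a465462a52a454452a429446442962843343283274254227526416412662440540245233f53f235223e63e226223d53d225213c43c214203b23b2021e3a63a1e61e395391e51d385381d51d374371d41c364361c41b356351b61a346341a61a333331a3193263219619315311951830430184172f62f176172e52e175172d22d172162c52c165162b42b164152a62a1561529329153132852813511276271161126526115102552510510244241040f232230f20e224220e40d216210d60d203200d30c1f51f0c50c1e41e0c40b1d61d0b60a1c61c0a60a1b51b0a5091a51a0950919419094081861808608173170830716616076071551507506145140650613213062051251205505114110540410610046040f30f043030e60e036030d50d035020c60c026020b50b025020a40a024020920902201085080150107407014010630601300056050060004504005000340300400023020030001201002)) (TN.leaf (nat_lit 0x78883887839a787789a7888b78b887769c79c7678c897898c7929b79b927828d78d8279d967969d78ea07a08e7919859891598a16a19868a914918a48a8f68f8a68695695866777c67c77658725725853e4d54d3e58d9b49b8d48697497864777d47d7748d995998d573854857345e664665e457716715763d4c64c3d6596b66b596)))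
noncomputable def F (i : ℕ) : ℕ := get9 F_t (nat_lit 20) (nat_lit 0xfffff) i
def Jp_t : TN := (TN.node (TN.leaf (nat_lit 0xdda01da8c12b4a807673022cca01d90c08b1a807613022c0a01d73c0dae080758b036afa01d56c08aa680752b022a3a01d3f0086770074cd02197e01d15c1a2248073eb05e7ba01cdfc179b880734f02268201cc80085890072f10215c601cb080855a00729302150a01c9900852b00723502144e01c818084fc0071d702139201c6a0084cd0071790212d601c5240889d80711902221601c3a80846e0070bb02115a01c2300843f00705d02109e01c0b808410007000020d1801d9b00832f00763e020c6001d840083010075e2020ba801d6780dac800755a036a9801d4600d2850074e80229b401d2e008a550074880228f401d1640862580742a02183801cfec085f68073cc02177c01ce74085c780736e0216c001cd000819900731202060801cb900816b0072b602055001ca2407d3d80725c01f49c01c8bc07d1080720201f3e801c75407ce380719103630601c5340d89f80710a0351f801c31c0d45c8070840350ec01c1080d01a007000034b6801d6040ceb9807551022a8601d48408a898074f10229c601d30408a5980749102290601d18408a2980743202184801d00c085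fa8073d402178c01ce94085cb8073760216d001cd1c0859c80731802161401cba40856d8072ba02155801ca2c0853e80725c02149c01c8b8081100072000203e401c748080e20071a402032c01c5d8080b400714802027401c46c07c868070ee01f1c001c30407c5980709501e10e01c1a40782d80703e01d06001c04c074028070000054a401c9340151f80723a00545801c89c0150c80721400540c01c804014f98071ee0053c001c76c014e68071c800537401c6d4014d38071a200532801c63c014c080717c0052dc01c5a4014ad80715600529001c50c0149a80713000524401c4740148780710a0051f801c3dc014748070e40051ac01c344014618070be00516001c2ac0144e80709800511401c2140143b8070720050c801c17c0142880704c00507c01c0e40141580702600503001c04c0140280700000546601a8b801510806a1c00541e01a828014fe8069f80053d601a798014ec8069d400538e01a708014da8069b000534601a678014c880698c0052fe01a5e8014b68069680052b601a558014a480694400526e01a4c80149280692000522601a438014808068fc0051de01a3a80146e8068d800519601a3180145c8068b400514e01a2880144a80689000510601a1f80143880686c0050be01a1680142680684800507601a0d80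141480682400502e01a0480140280680000546601a8b801510806a1c00541e01a828014fe8069f80053d601a798014ec8069d400538e01a708014da8069b000534601a678014c880698c0052fe01a5e8014b68069680052b601a558014a480694400526e01a4c80149280692000522601a438014808068fc0051de01a3a80146e8068d800519601a3180145c8068b400514e01a2880144a80689000510601a1f80143880686c0050be01a1680142680684800507601a0d80141480682400502e01a0480140280680000542801883c015018061fe0053e40187b4014f08061dc0053a001872c014df8061ba00535c0186a4014ce80619800531801861c014bd8061760052d4018594014ac80615400529001850c0149b80613200524c0184840148a8061100052080183fc014798060ee0051c4018374014688060cc0051800182ec014578060aa00513c018264014468060880050f80181dc014358060660050b4018154014248060440050700180cc0141380602200502c018044014028060000053a001672c014e00059bb0053600166ac014d000599b00532001662c014c000597b0052e00165ac014b000595b0052a001652c014a000593b0052600164ac0149000591b00522001642c014800058fb0051e00163ac014700058db0051a2014330014610050bd0051660142b80145200509f00512a014240014430050810050ee0141c8014340050630050b40121540142600484700507c0120e40141800482b0050460100780140b00401100501400e01401402800000005))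 (TN.leaf (nat_lit 0xd8e01fabc06350007e7e022cde01f93408b1f007e1c022c1a01f7ac08aee007db9023b5401f62008abc807d57022a9001f3801a268807c690688b401f0e008a14807c070227f001ef58089e3807b6905e6b401ebf417577007ab903555401e9d40d533007a4402246a01e84c089020079e30213a801e5b01a0ae80791304a20801e2ec1245600788a0220f601e1640882500780004a)))
noncomputable def Jp (i : ℕ) : ℕ := get9 Jp_t (nat_lit 23) (nat_lit 0x7fffff) i
def J_t : TN := (TN.node (TN.node (TN.node (TN.node (TN.leaf (nat_lit 0x7c0e780e740e700e6c0e680e640e600e5c0e580e540e500e4c0e480e440e400e781ce039a07300e581ca039207200e703980e503900e6072039039c)) (TN.leaf (nat_lit 0x23204ce310c6008ac5c99b62e04de2c5d6316036d15a20d8a81358a1f28450084226795f13027312a54e8901cf889796c440be2830f4410e4369eaf4c6a75b88012e83d2c7321475a13724f948750f03610c25eb8701208311344340d742c89ae1804a1ac4158a5cd064260842f10b03d9a631d8659cc832e063b710a0388e1810ac2be909026097808781ee9080268fec14583812c8210b2c180f8818ed2c140fe220751703e3664798679a339820108370a668ccf3f5fab40c0ca2485c66487305f8b4080ef402ee32020751ff74990002d4c4bdc592b0c1acb5)))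 (TN.leaf (nat_lit 0x9f0393c072740e4e01c9b03934072640e4c01c970392c072540e4a01c9303924072440e4801c8f0391c072340e4601c8b03914072240e4401c870390c072140e4201c8303904072040e4001c))) (TN.node (TN.leaf (nat_lit 0xbe072f01cba072e01cb6072d01cb2072c01cae072b01caa072a01ca6072901ca2072801c9e072701c9a072601c96072501c92072401c8e072301c8a072201c86072101c82072001c)) (TN.leaf (nat_lit 0x37c0d4ca0864de02f324238b740a8c80862dc02931c209f6c09b228b71e28bcb680921fcb61b281cb640b0162880e88b2d80280bb2524d70238b81ee4d60200b61b67d503f1683449a806e2c454934c0c4580913e90180ae1124d10269561951a00492a82f933c0cca70727ce0312981b9f340c0a606a3cc02829416a32c0f94807519406ca30366c902e5101f3e40152840d9f1c0a14206478c04e91a3c8f547e78a0410da290a737e788069138300c650cf0c0c62405a174959e1011429050158af3c10370700a02e1ecf000900f00c048473)))) (TN.node (TN.node (TN.leaf (nat_lit 0xfc0e7c073d039e01cec0e740739039c01cdc0e6c0735039a01ccc0e640731039801cbc0e5c072d039601cac0e540729039401c9c0e4c0725039201c8c0e440721039001c))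 (TN.leaf (nat_lit 0x2fc0900a0000304657c04f92449cf7a04f11c47cb7804e11846cd760498fe404d740438e83ac7720418dc37cb7007a184629adc0ee2f0bf1db01ac5114a3b503509e284b680671344e9acc0c8248952d90160360de5b102986419cd600470b02d8ebc08c150572d7010c280a66ad03f08c2496b00e01d07a5ab0300601996a80b81605e6a9027048138ea0094100465a7032040151d3018020098a940a00c03cb480600401cb460480201494407000038e840c0000515001c))) (TN.node (TN.leaf (nat_lit 0xfe073f01cfa073e01cf6073d01cf2073c01cee073b01cea073a01ce6073901ce2073801cde073701cda073601cd6073501cd2073401cce073301cca073201cc6073101cc2073001c)) (TN.leaf (nat_lit 0x7f815e615ec201506055baff01307c11147e81aa7d8e55fe01a47d0bb5fd81e82c8701ccb59fd01e62004a134839fc81227a91757c010c788eb2fb81a468bd05f6022889798bea0780d8290640c97f13c852fcf1cfa01da2a8680d01205c3d564b3bf981d01d840060040242354481bf90122781034f881ccec1728f003e9ca3651de07038c588fb80d4710ad1f681a0e11562ec02d9c01f4bd605737c3d9ba80966f07f1f48118dd0f23e80221b81dc5ce04f9b44acdcc0421a838cdca0663445297900ca680993718150cf0da2e202799c1ac5c204e334349f800e8cb08a9)))))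
noncomputable def J (k : ℕ) : ℕ := getV J_t Jp k
def D_t : TN := (TN.leaf (nat_lit 0x2813e9e4ea71369a4ca612e964aa51269248a411e8e46a31168a44a210e8642a11068240a00fe7e3e9f0f67a3c9e0ee763a9d0e672389c0de6e369b0d66a349a0ce6632990c66230980be5e2e970b65a2c960ae562a950a652289409e4e26930964a249208e46229108642209007e3e1e8f0763a1c8e06e361a8d06632188c05e2e168b0562a148a04e26128904622108803e1e0e870361a0c8602e160a8502612088401e0e06830160a048200e060281006020080000))
noncomputable def D (i : ℕ) : ℕ := get9 D_t (nat_lit 9) (nat_lit 511) i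
def C_t : TN := (TN.leaf (nat_lit 0xb003b805b802b004b0030001000330033001780100000000000000000000400138016001180110014003380308011003600318030000))
noncomputable def C (i : ℕ) : ℕ := get9 C_t (nat_lit 16) (nat_lit 65535) i
def W_t : TL := (TL.node (TL.node (TL.node (TL.node (TL.node (TL.leaf [nat_lit 3, nat_lit 7, nat_lit 3]) (TL.leaf [nat_lit 7, nat_lit 2, nat_lit 7, nat_lit 2])) (TL.node (TL.leaf [nat_lit 4, nat_lit 2, nat_lit 4, nat_lit 2]) (TL.leaf [nat_lit 5, nat_lit 3, nat_lit 5, nat_lit 3, nat_lit 5, nat_lit 3, nat_lit 5, nat_lit 3, nat_lit 5, nat_lit 3, nat_lit 4]))) (TL.node (TL.node (TL.leaf [nat_lit 4, nat_lit 5, nat_lit 4, nat_lit 5]) (TL.leaf [nat_lit 6, nat_lit 4, nat_lit 6, nat_lit 4, nat_lit 6, nat_lit 4, nat_lit 6, nat_lit 4])) (TL.leaf [nat_lit 7, nat_lit 3, nat_lit 7, nat_lit 3]))) (TL.node (TL.node (TL.node (TL.leaf [nat_lit 2, nat_lit 5, nat_lit 2, nat_lit 5]) (TL.leaf [nat_lit 6, nat_lit 5, nat_lit 6, nat_lit 5, nat_lit 6, nat_lit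 5])) (TL.node (TL.leaf [nat_lit 6, nat_lit 3, nat_lit 6, nat_lit 3]) (TL.leaf [nat_lit 7, nat_lit 5, nat_lit 6, nat_lit 4, nat_lit 5, nat_lit 6, nat_lit 4, nat_lit 5, nat_lit 6, nat_lit 4, nat_lit 2]))) (TL.node (TL.node (TL.leaf [nat_lit 2, nat_lit 6, nat_lit 2, nat_lit 6]) (TL.leaf [nat_lit 5, nat_lit 6, nat_lit 4, nat_lit 5, nat_lit 6, nat_lit 4, nat_lit 5, nat_lit 6, nat_lit 4, nat_lit 2])) (TL.leaf [nat_lit 7, nat_lit 4, nat_lit 7, nat_lit 4])))) (TL.node (TL.node (TL.node (TL.node (TL.leaf [nat_lit 2, nat_lit 4, nat_lit 2, nat_lit 4]) (TL.leaf [nat_lit 3, nat_lit 2, nat_lit 3, nat_lit 2, nat_lit 3, nat_lit 2])) (TL.node (TL.leaf [nat_lit 5, nat_lit 2, nat_lit 5, nat_lit 2]) (TL.leaf [nat_lit 5, nat_lit 3, nat_lit 5, nat_lit 3, nat_lit 5, nat_lit 3, nat_lit 5, nat_lit 3, nat_lit 5, nat_lit 4, nat_lit 3]))) (TL.node (TL.node (TL.leaf [nat_lit 3, nat_lit 6, nat_lit 3, nat_lit 6]) (TL.leaf [nat_lit 4, nat_lit 6, nat_lit 4, nat_lit 6, nat_lit 4, nat_lit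 6, nat_lit 4, nat_lit 6])) (TL.leaf [nat_lit 7, nat_lit 6, nat_lit 7, nat_lit 6]))) (TL.node (TL.node (TL.node (TL.leaf [nat_lit 3, nat_lit 4, nat_lit 3, nat_lit 4]) (TL.leaf [nat_lit 5, nat_lit 6, nat_lit 5, nat_lit 6, nat_lit 5, nat_lit 6])) (TL.node (TL.leaf [nat_lit 6, nat_lit 2, nat_lit 6, nat_lit 2]) (TL.leaf []))) (TL.node (TL.node (TL.leaf [nat_lit 4, nat_lit 3, nat_lit 4, nat_lit 3]) (TL.leaf [nat_lit 6, nat_lit 5, nat_lit 4, nat_lit 6, nat_lit 5, nat_lit 4, nat_lit 6, nat_lit 5, nat_lit 2, nat_lit 4])) (TL.leaf [nat_lit 7, nat_lit 5, nat_lit 7, nat_lit 5])))))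
noncomputable def W (i : ℕ) : List ℕ := TL.get W_t i
noncomputable def f : ℕ → ℕ := factE (nat_lit 16) (nat_lit 4096) (nat_lit 1024) (nat_lit 32) (nat_lit 7) (nat_lit 0) (nat_lit 27) F J D (fun j => j) W
theorem r0 : Nat.beq (rng f (nat_lit 0) (nat_lit 564)) (nat_lit 0) = true := by decide +kernel
theorem hf : ∀ i < 564, f i = 0 := by
  have h := zero_lt_zero f
  have h := zero_lt_add (a := (nat_lit 0)) (n := (nat_lit 564)) (b := (nat_lit 564)) h r0 rfl
  exact h
def w : List ℕ := [nat_lit 5, nat_lit 3, nat_lit 2, nat_lit 5, nat_lit 3, nat_lit 2, nat_lit 5, nat_lit 3, nat_lit 2, nat_lit 5, nat_lit 3, nat_lit 2, nat_lit 5, nat_lit 3, nat_lit 2]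
theorem mem {G : Type*} [Group G] {g : ℕ → G} (h1 : InvOK g (fun j => j) 7) (h2 : ∀ r ∈ rels, ev g r = 1) :
    ev g w ∈ gen g 0 :=
  (by decide +kernel : dropL 7 [nat_lit 5, nat_lit 3, nat_lit 2, nat_lit 5, nat_lit 3, nat_lit 2, nat_lit 5, nat_lit 3, nat_lit 2, nat_lit 5, nat_lit 3, nat_lit 2, nat_lit 5, nat_lit 3, nat_lit 2] = w) ▸ pl_word (C := C) h1 (getD_rel h2) (by decide +kernel) hf (s := (nat_lit 0x102c2754c852fd6f8cd0e3a0b81f04407006)) (by decide +kernel)
end W0

namespace L1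
def t0x : TN := (TN.leaf (nat_lit 337))
def tt : TN := (TN.node (TN.node (TN.node (TN.node t0x (TN.leaf (nat_lit 0))) (TN.node (TN.leaf (nat_lit 0)) (TN.leaf (nat_lit 0)))) (TN.node (TN.node (TN.leaf (nat_lit 0)) (TN.leaf (nat_lit 0))) (TN.node (TN.leaf (nat_lit 0)) (TN.leaf (nat_lit 0))))) (TN.node (TN.node (TN.node (TN.leaf (nat_lit 0)) (TN.leaf (nat_lit 0))) (TN.node (TN.leaf (nat_lit 0)) (TN.leaf (nat_lit 0)))) (TN.node (TN.node (TN.leaf (nat_lit 0)) (TN.leaf (nat_lit 0))) (TN.node (TN.leaf (nat_lit 0)) (TN.leaf (nat_lit 0))))))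
noncomputable def T (j c : ℕ) : ℕ := getL tt (nat_lit 5) (nat_lit 1) j c
noncomputable def E (j c : ℕ) : ℕ := getL tt (nat_lit 5) (nat_lit 31) j c
theorem T_eq (j c : ℕ) : T j c = E j c % 2 :=
  getL_mod (a := 1) (b := 5) _ _ (by norm_num) (by norm_num) (by norm_num) (by norm_num) j c
def rels : List (List ℕ) := []
def X_t : TN := (TN.leaf (nat_lit 0))
noncomputable def X (i : ℕ) : ℕ := get9 X_t (nat_lit 1) (nat_lit 1) i
def Jp_t : TN := (TN.leaf (nat_lit 0))
noncomputable def Jp (i : ℕ) : ℕ := get9 Jp_t (nat_lit 1) (nat_lit 1) i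
def J_t : TN := (TN.leaf (nat_lit 0))
noncomputable def J (k : ℕ) : ℕ := getV J_t Jp k
def Pa_t : TN := (TN.leaf (nat_lit 2048))
noncomputable def Pa (i : ℕ) : ℕ := get9 Pa_t (nat_lit 6) (nat_lit 63) i
def W_t : TL := (TL.leaf [])
noncomputable def W (i : ℕ) : List ℕ := TL.get W_t i
def WA_t : TL := (TL.leaf [nat_lit 0])
noncomputable def WA (i : ℕ) : List ℕ := TL.get WA_t i
noncomputable def row : ℕ → ℕ := hRow (nat_lit 1) (nat_lit 1) (nat_lit 0) (nat_lit 2) (nat_lit 4) (nat_lit 8) (nat_lit 32) (nat_lit 32) (nat_lit 0) E X Pa (fun j => j) (wfun (nat_lit 0) W_t)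
noncomputable def aux : ℕ → ℕ := hAux (nat_lit 2) (nat_lit 1) (nat_lit 2) (nat_lit 8) (nat_lit 32) (nat_lit 2) (nat_lit 2) (nat_lit 32) (nat_lit 0) E X J Pa (fun j => j) WA_t.get
theorem r0 : Nat.beq (rng row (nat_lit 0) (nat_lit 2)) (nat_lit 0) = true := by decide +kernel
theorem rows : ∀ i < 2, row i = 0 := by
  have h := zero_lt_zero row
  have h := zero_lt_add (a := (nat_lit 0)) (n := (nat_lit 2)) (b := (nat_lit 2)) h r0 rfl
  exact h
theorem auxs : ∀ i < 0, aux i = 0 := by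
  have h := zero_lt_zero aux
  exact h
theorem closes.{u} : ClosesT.{u} (fun j => j) rels 1 0 2 T :=
  hc_closes (N1 := (nat_lit 1)) rfl T_eq (by decide +kernel) rows auxs
theorem T_inv : ∀ c < 2, ∀ j < 1, T j c < 2 ∧ T j (T j c) = c := 
  hc_inv (inv := (fun j => j)) (N1 := (nat_lit 1)) rfl T_eq rows
end L1

namespace L2
def t0x : TN := (TN.leaf (nat_lit 0x7655114))
def t1x : TN := (TN.leaf (nat_lit 0x2c8ca21))
def tt : TN := (TN.node (TN.node (TN.node (TN.node t0x (TN.leaf (nat_lit 0))) (TN.node (TN.leaf (nat_lit 0)) (TN.leaf (nat_lit 0)))) (TN.node (TN.node (TN.leaf (nat_lit 0)) (TN.leaf (nat_lit 0))) (TN.node (TN.leaf (nat_lit 0)) (TN.leaf (nat_lit 0))))) (TN.node (TN.node (TN.node t1x (TN.leaf (nat_lit 0))) (TN.node (TN.leaf (nat_lit 0)) (TN.leaf (nat_lit 0)))) (TN.node (TN.node (TN.leaf (nat_lit 0)) (TN.leaf (nat_lit 0))) (TN.node (TN.leaf (nat_lit 0)) (TN.leaf (nat_lit 0))))))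
noncomputable def T (j c : ℕ) : ℕ := getL tt (nat_lit 7) (nat_lit 3) j c
noncomputable def E (j c : ℕ) : ℕ := getL tt (nat_lit 7) (nat_lit 127) j c
theorem T_eq (j c : ℕ) : T j c = E j c % 4 :=
  getL_mod (a := 2) (b := 7) _ _ (by norm_num) (by norm_num) (by norm_num) (by norm_num) j c
def rels : List (List ℕ) := [[nat_lit 0, nat_lit 1, nat_lit 0, nat_lit 1, nat_lit 0, nat_lit 1, nat_lit 0, nat_lit 1]]
def X_t : TN := (TN.leaf (nat_lit 0))
noncomputable def X (i : ℕ) : ℕ := get9 X_t (nat_lit 1) (nat_lit 1) i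
def Jp_t : TN := (TN.leaf (nat_lit 0))
noncomputable def Jp (i : ℕ) : ℕ := get9 Jp_t (nat_lit 1) (nat_lit 1) i
def J_t : TN := (TN.leaf (nat_lit 0))
noncomputable def J (k : ℕ) : ℕ := getV J_t Jp k
def Pa_t : TN := (TN.leaf (nat_lit 0xe1904100))
noncomputable def Pa (i : ℕ) : ℕ := get9 Pa_t (nat_lit 8) (nat_lit 255) i
def W_t : TL := (TL.leaf [nat_lit 1, nat_lit 0, nat_lit 1, nat_lit 0, nat_lit 1, nat_lit 0, nat_lit 1, nat_lit 0, nat_lit 1])
noncomputable def W (i : ℕ) : List ℕ := TL.get W_t i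
def WA_t : TL := (TL.leaf [nat_lit 0])
noncomputable def WA (i : ℕ) : List ℕ := TL.get WA_t i
noncomputable def row : ℕ → ℕ := hRow (nat_lit 3) (nat_lit 2) (nat_lit 1) (nat_lit 4) (nat_lit 4) (nat_lit 16) (nat_lit 64) (nat_lit 64) (nat_lit 0) E X Pa (fun j => j) (wfun (nat_lit 1) W_t)
noncomputable def aux : ℕ → ℕ := hAux (nat_lit 4) (nat_lit 2) (nat_lit 4) (nat_lit 16) (nat_lit 64) (nat_lit 2) (nat_lit 2) (nat_lit 64) (nat_lit 0) E X J Pa (fun j => j) WA_t.get
theorem r0 : Nat.beq (rng row (nat_lit 0) (nat_lit 4)) (nat_lit 0) = true := by decide +kernel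
theorem rows : ∀ i < 4, row i = 0 := by
  have h := zero_lt_zero row
  have h := zero_lt_add (a := (nat_lit 0)) (n := (nat_lit 4)) (b := (nat_lit 4)) h r0 rfl
  exact h
theorem auxs : ∀ i < 0, aux i = 0 := by
  have h := zero_lt_zero aux
  exact h
theorem closes.{u} : ClosesT.{u} (fun j => j) rels 2 1 4 T :=
  hc_closes (N1 := (nat_lit 3)) rfl T_eq (by decide +kernel) rows auxs
theorem T_inv : ∀ c < 4, ∀ j < 2, T j c < 4 ∧ T j (T j c) = c := 
  hc_inv (inv := (fun j => j)) (N1 := (nat_lit 3)) rfl T_eq rows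
end L2

namespace L3
def t0x : TN := (TN.leaf (nat_lit 10))
def t1x : TN := (TN.leaf (nat_lit 10))
def t2x : TN := (TN.leaf (nat_lit 20))
def tt : TN := (TN.node (TN.node (TN.node (TN.node t0x (TN.leaf (nat_lit 0))) (TN.node (TN.leaf (nat_lit 0)) (TN.leaf (nat_lit 0)))) (TN.node (TN.node t2x (TN.leaf (nat_lit 0))) (TN.node (TN.leaf (nat_lit 0)) (TN.leaf (nat_lit 0))))) (TN.node (TN.node (TN.node t1x (TN.leaf (nat_lit 0))) (TN.node (TN.leaf (nat_lit 0)) (TN.leaf (nat_lit 0)))) (TN.node (TN.node (TN.leaf (nat_lit 0)) (TN.leaf (nat_lit 0))) (TN.node (TN.leaf (nat_lit 0)) (TN.leaf (nat_lit 0))))))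
noncomputable def T (j c : ℕ) : ℕ := getL tt (nat_lit 5) (nat_lit 1) j c
noncomputable def E (j c : ℕ) : ℕ := getL tt (nat_lit 5) (nat_lit 31) j c
theorem T_eq (j c : ℕ) : T j c = E j c % 2 :=
  getL_mod (a := 1) (b := 5) _ _ (by norm_num) (by norm_num) (by norm_num) (by norm_num) j c
def rels : List (List ℕ) := [[nat_lit 2, nat_lit 0, nat_lit 2, nat_lit 0], [nat_lit 2, nat_lit 1, nat_lit 2, nat_lit 1], [nat_lit 0, nat_lit 1, nat_lit 0, nat_lit 1, nat_lit 0, nat_lit 1, nat_lit 0, nat_lit 1], [nat_lit 2, nat_lit 1, nat_lit 0, nat_lit 1, nat_lit 0]]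
def X_t : TN := (TN.leaf (nat_lit 0))
noncomputable def X (i : ℕ) : ℕ := get9 X_t (nat_lit 1) (nat_lit 1) i
def Jp_t : TN := (TN.leaf (nat_lit 0))
noncomputable def Jp (i : ℕ) : ℕ := get9 Jp_t (nat_lit 1) (nat_lit 1) i
def J_t : TN := (TN.leaf (nat_lit 0))
noncomputable def J (k : ℕ) : ℕ := getV J_t Jp k
def Pa_t : TN := (TN.leaf (nat_lit 0))
noncomputable def Pa (i : ℕ) : ℕ := get9 Pa_t (nat_lit 1) (nat_lit 1) i
def W_t : TL := (TL.leaf [nat_lit 6145, nat_lit 2, nat_lit 1, nat_lit 0, nat_lit 1, nat_lit 0])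
noncomputable def W (i : ℕ) : List ℕ := TL.get W_t i
def WA_t : TL := (TL.leaf [nat_lit 0])
noncomputable def WA (i : ℕ) : List ℕ := TL.get WA_t i
noncomputable def row : ℕ → ℕ := hRow (nat_lit 0) (nat_lit 3) (nat_lit 2) (nat_lit 2) (nat_lit 4) (nat_lit 8) (nat_lit 16) (nat_lit 16) (nat_lit 0) E X Pa (fun j => j) (wfun (nat_lit 1) W_t)
noncomputable def aux : ℕ → ℕ := hAux (nat_lit 1) (nat_lit 3) (nat_lit 2) (nat_lit 8) (nat_lit 16) (nat_lit 2) (nat_lit 2) (nat_lit 16) (nat_lit 0) E X J Pa (fun j => j) WA_t.get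
theorem r0 : Nat.beq (rng row (nat_lit 0) (nat_lit 1)) (nat_lit 0) = true := by decide +kernel
theorem rows : ∀ i < 1, row i = 0 := by
  have h := zero_lt_zero row
  have h := zero_lt_add (a := (nat_lit 0)) (n := (nat_lit 1)) (b := (nat_lit 1)) h r0 rfl
  exact h
theorem auxs : ∀ i < 0, aux i = 0 := by
  have h := zero_lt_zero aux
  exact h
theorem closes.{u} : ClosesT.{u} (fun j => j) rels 3 2 1 T :=
  hc_closes (N1 := (nat_lit 0)) rfl T_eq (by decide +kernel) rows auxs
theorem T_inv : ∀ c < 1, ∀ j < 3, T j c < 1 ∧ T j (T j c) = c := 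
  hc_inv (inv := (fun j => j)) (N1 := (nat_lit 0)) rfl T_eq rows
end L3

namespace L4
def t0x : TN := (TN.leaf (nat_lit 0x430603842c5144814673d5f310a481245ad56a2035405108d0044120c46201c4212008420))
def t1x : TN := (TN.leaf (nat_lit 0x1c1110b5912645042b10a946e204d52c204080f44a500460195071088c681084805200c420))
def t2x : TN := (TN.leaf (nat_lit 0x181060355b210ad494563c429584d14c204514a20384234014422321c42120208062010420))
def t3x : TN := (TN.leaf (nat_lit 0x20b4734d80d5039c0f63410f152c8428109c426109480c202c80a2024ce4330cca21080801))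
def tt : TN := (TN.node (TN.node (TN.node (TN.node t0x (TN.leaf (nat_lit 0))) (TN.node (TN.leaf (nat_lit 0)) (TN.leaf (nat_lit 0)))) (TN.node (TN.node t2x (TN.leaf (nat_lit 0))) (TN.node (TN.leaf (nat_lit 0)) (TN.leaf (nat_lit 0))))) (TN.node (TN.node (TN.node t1x (TN.leaf (nat_lit 0))) (TN.node (TN.leaf (nat_lit 0)) (TN.leaf (nat_lit 0)))) (TN.node (TN.node t3x (TN.leaf (nat_lit 0))) (TN.node (TN.leaf (nat_lit 0)) (TN.leaf (nat_lit 0))))))
noncomputable def T (j c : ℕ) : ℕ := getL tt (nat_lit 14) (nat_lit 31) j c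
noncomputable def E (j c : ℕ) : ℕ := getL tt (nat_lit 14) (nat_lit 16383) j c
theorem T_eq (j c : ℕ) : T j c = E j c % 32 :=
  getL_mod (a := 5) (b := 14) _ _ (by norm_num) (by norm_num) (by norm_num) (by norm_num) j c
def rels : List (List ℕ) := [[nat_lit 3, nat_lit 2, nat_lit 3, nat_lit 2, nat_lit 3, nat_lit 2], [nat_lit 3, nat_lit 0, nat_lit 3, nat_lit 0, nat_lit 3, nat_lit 0], [nat_lit 3, nat_lit 1, nat_lit 3, nat_lit 1, nat_lit 3, nat_lit 1], [nat_lit 2, nat_lit 0, nat_lit 2, nat_lit 0], [nat_lit 2, nat_lit 1, nat_lit 2, nat_lit 1], [nat_lit 0, nat_lit 1, nat_lit 0, nat_lit 1, nat_lit 0, nat_lit 1, nat_lit 0, nat_lit 1], [nat_lit 2, nat_lit 1, nat_lit 0, nat_lit 1, nat_lit 0]]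
def X_t : TN := (TN.leaf (nat_lit 0))
noncomputable def X (i : ℕ) : ℕ := get9 X_t (nat_lit 1) (nat_lit 1) i
def Jp_t : TN := (TN.leaf (nat_lit 0))
noncomputable def Jp (i : ℕ) : ℕ := get9 Jp_t (nat_lit 1) (nat_lit 1) i
def J_t : TN := (TN.leaf (nat_lit 0))
noncomputable def J (k : ℕ) : ℕ := getV J_t Jp k
def Pa_t : TN := (TN.leaf (nat_lit 0xd00cd1ac0ab2ab1aa1a92a90883873863853632630622621412411410203000))
noncomputable def Pa (i : ℕ) : ℕ := get9 Pa_t (nat_lit 12) (nat_lit 4095) i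
def W_t : TL := (TL.node (TL.node (TL.node (TL.node (TL.leaf [nat_lit 6147, nat_lit 0, nat_lit 2, nat_lit 0, nat_lit 2]) (TL.leaf [nat_lit 3, nat_lit 2, nat_lit 3, nat_lit 2, nat_lit 3, nat_lit 2, nat_lit 3])) (TL.node (TL.leaf [nat_lit 4097, nat_lit 3, nat_lit 1, nat_lit 3, nat_lit 1, nat_lit 3, nat_lit 1]) (TL.leaf [nat_lit 12293, nat_lit 0, nat_lit 1, nat_lit 0, nat_lit 2, nat_lit 1]))) (TL.node (TL.node (TL.leaf [nat_lit 12289, nat_lit 2, nat_lit 1, nat_lit 0, nat_lit 1, nat_lit 0]) (TL.leaf [nat_lit 8193, nat_lit 2, nat_lit 1, nat_lit 2, nat_lit 1])) (TL.node (TL.leaf [nat_lit 12295, nat_lit 1, nat_lit 0, nat_lit 2, nat_lit 1, nat_lit 0]) (TL.leaf [nat_lit 12298, nat_lit 2, nat_lit 0, nat_lit 1, nat_lit 0, nat_lit 1])))) (TL.node (TL.node (TL.node (TL.leaf [nat_lit 8195, nat_lit 1, nat_lit 2, nat_lit 1, nat_lit 2]) (TL.leaf [nat_lit 2051, nat_lit 0, nat_lit 3, nat_lit 0, nat_lit 3, nat_lit 0, nat_lit 3])) (TL.node (TL.leaf [nat_lit 1, nat_lit 3,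 nat_lit 2, nat_lit 3, nat_lit 2, nat_lit 3, nat_lit 2]) (TL.leaf [nat_lit 12297, nat_lit 0, nat_lit 2, nat_lit 1, nat_lit 0, nat_lit 1]))) (TL.node (TL.node (TL.leaf [nat_lit 2049, nat_lit 3, nat_lit 0, nat_lit 3, nat_lit 0, nat_lit 3, nat_lit 0]) (TL.leaf [nat_lit 6145, nat_lit 2, nat_lit 0, nat_lit 2, nat_lit 0])) (TL.leaf [nat_lit 4099, nat_lit 1, nat_lit 3, nat_lit 1, nat_lit 3, nat_lit 1, nat_lit 3]))))
noncomputable def W (i : ℕ) : List ℕ := TL.get W_t i
def WA_t : TL := (TL.leaf [nat_lit 0])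
noncomputable def WA (i : ℕ) : List ℕ := TL.get WA_t i
noncomputable def row : ℕ → ℕ := hRow (nat_lit 20) (nat_lit 4) (nat_lit 3) (nat_lit 32) (nat_lit 32) (nat_lit 1024) (nat_lit 512) (nat_lit 512) (nat_lit 0) E X Pa (fun j => j) (wfun (nat_lit 15) W_t)
noncomputable def aux : ℕ → ℕ := hAux (nat_lit 21) (nat_lit 4) (nat_lit 32) (nat_lit 1024) (nat_lit 512) (nat_lit 2) (nat_lit 2) (nat_lit 512) (nat_lit 0) E X J Pa (fun j => j) WA_t.get
theorem r0 : Nat.beq (rng row (nat_lit 0) (nat_lit 21)) (nat_lit 0) = true := by decide +kernel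
theorem rows : ∀ i < 21, row i = 0 := by
  have h := zero_lt_zero row
  have h := zero_lt_add (a := (nat_lit 0)) (n := (nat_lit 21)) (b := (nat_lit 21)) h r0 rfl
  exact h
theorem auxs : ∀ i < 0, aux i = 0 := by
  have h := zero_lt_zero aux
  exact h
theorem closes.{u} : ClosesT.{u} (fun j => j) rels 4 3 21 T :=
  hc_closes (N1 := (nat_lit 20)) rfl T_eq (by decide +kernel) rows auxs
theorem T_inv : ∀ c < 21, ∀ j < 4, T j c < 21 ∧ T j (T j c) = c := 
  hc_inv (inv := (fun j => j)) (N1 := (nat_lit 20)) rfl T_eq rows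
end L4

namespace L5
def t0x : TN := (TN.leaf (nat_lit 7314))
def t1x : TN := (TN.leaf (nat_lit 7570))
def t2x : TN := (TN.leaf (nat_lit 7058))
def t3x : TN := (TN.leaf (nat_lit 6802))
def t4x : TN := (TN.leaf (nat_lit 2337))
def tt : TN := (TN.node (TN.node (TN.node (TN.node t0x (TN.leaf (nat_lit 0))) (TN.node t4x (TN.leaf (nat_lit 0)))) (TN.node (TN.node t2x (TN.leaf (nat_lit 0))) (TN.node (TN.leaf (nat_lit 0)) (TN.leaf (nat_lit 0))))) (TN.node (TN.node (TN.node t1x (TN.leaf (nat_lit 0))) (TN.node (TN.leaf (nat_lit 0)) (TN.leaf (nat_lit 0)))) (TN.node (TN.node t3x (TN.leaf (nat_lit 0))) (TN.node (TN.leaf (nat_lit 0)) (TN.leaf (nat_lit 0))))))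
noncomputable def T (j c : ℕ) : ℕ := getL tt (nat_lit 7) (nat_lit 1) j c
noncomputable def E (j c : ℕ) : ℕ := getL tt (nat_lit 7) (nat_lit 127) j c
theorem T_eq (j c : ℕ) : T j c = E j c % 2 :=
  getL_mod (a := 1) (b := 7) _ _ (by norm_num) (by norm_num) (by norm_num) (by norm_num) j c
def rels : List (List ℕ) := [[nat_lit 4, nat_lit 3, nat_lit 4, nat_lit 3], [nat_lit 4, nat_lit 2, nat_lit 4, nat_lit 2], [nat_lit 4, nat_lit 0, nat_lit 4, nat_lit 0], [nat_lit 4, nat_lit 1, nat_lit 4, nat_lit 1], [nat_lit 3, nat_lit 2, nat_lit 3, nat_lit 2, nat_lit 3, nat_lit 2], [nat_lit 3, nat_lit 0, nat_lit 3, nat_lit 0, nat_lit 3, nat_lit 0], [nat_lit 3, nat_lit 1, nat_lit 3, nat_lit 1, nat_lit 3, nat_lit 1], [nat_lit 2, nat_lit 0, nat_lit 2, nat_lit 0], [nat_lit 2, nat_lit 1, nat_lit 2, nat_lit 1], [nat_lit 0, nat_lit 1, nat_lit 0, nat_lit 1, nat_lit 0, nat_lit 1, nat_lit 0, nat_lit 1], [nat_lit 2, nat_lit 1, nat_lit 0, nat_lit 1, nat_lit 0]]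
def X_t : TN := (TN.leaf (nat_lit 0))
noncomputable def X (i : ℕ) : ℕ := get9 X_t (nat_lit 1) (nat_lit 1) i
def Jp_t : TN := (TN.leaf (nat_lit 0))
noncomputable def Jp (i : ℕ) : ℕ := get9 Jp_t (nat_lit 1) (nat_lit 1) i
def J_t : TN := (TN.leaf (nat_lit 0))
noncomputable def J (k : ℕ) : ℕ := getV J_t Jp k
def Pa_t : TN := (TN.leaf (nat_lit 2304))
noncomputable def Pa (i : ℕ) : ℕ := get9 Pa_t (nat_lit 6) (nat_lit 63) i
def W_t : TL := (TL.node (TL.node (TL.leaf [nat_lit 3, nat_lit 3, nat_lit 4, nat_lit 3, nat_lit 4]) (TL.leaf [nat_lit 4099, nat_lit 0, nat_lit 4, nat_lit 0, nat_lit 4])) (TL.node (TL.leaf [nat_lit 2051, nat_lit 2, nat_lit 4, nat_lit 2, nat_lit 4]) (TL.leaf [nat_lit 6147, nat_lit 1, nat_lit 4, nat_lit 1, nat_lit 4])))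
noncomputable def W (i : ℕ) : List ℕ := TL.get W_t i
def WA_t : TL := (TL.leaf [nat_lit 0])
noncomputable def WA (i : ℕ) : List ℕ := TL.get WA_t i
noncomputable def row : ℕ → ℕ := hRow (nat_lit 1) (nat_lit 5) (nat_lit 4) (nat_lit 2) (nat_lit 8) (nat_lit 16) (nat_lit 32) (nat_lit 32) (nat_lit 0) E X Pa (fun j => j) (wfun (nat_lit 4) W_t)
noncomputable def aux : ℕ → ℕ := hAux (nat_lit 2) (nat_lit 5) (nat_lit 2) (nat_lit 16) (nat_lit 32) (nat_lit 2) (nat_lit 2) (nat_lit 32) (nat_lit 0) E X J Pa (fun j => j) WA_t.get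
theorem r0 : Nat.beq (rng row (nat_lit 0) (nat_lit 2)) (nat_lit 0) = true := by decide +kernel
theorem rows : ∀ i < 2, row i = 0 := by
  have h := zero_lt_zero row
  have h := zero_lt_add (a := (nat_lit 0)) (n := (nat_lit 2)) (b := (nat_lit 2)) h r0 rfl
  exact h
theorem auxs : ∀ i < 0, aux i = 0 := by
  have h := zero_lt_zero aux
  exact h
theorem closes.{u} : ClosesT.{u} (fun j => j) rels 5 4 2 T :=
  hc_closes (N1 := (nat_lit 1)) rfl T_eq (by decide +kernel) rows auxs
theorem T_inv : ∀ c < 2, ∀ j < 5, T j c < 2 ∧ T j (T j c) = c := 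
  hc_inv (inv := (fun j => j)) (N1 := (nat_lit 1)) rfl T_eq rows
end L5

namespace L6
def t0x : TN := (TN.leaf (nat_lit 0x282779253b9901a0500e09406dd2039040182200bd3c0603c035c10377414ea040dd460386229c4494ec8405c8206bcb019a800d890a75a202a410348794dc7437302068e001a7000ce7c36a8802784013ac14ed20a67be9f50a35ba280c8040ca0802584012a206cc480491e0241201842008b48048a21314309d271be7040c102060430dd00817c0807284038e035be200796803c2e02a17013808176140580205d0400ea206b30806f0205c9a01182006f3c0511e029500db4b04b6040b5b001c4e0d54100d90806b1c12add35422006369e4f86134830da2b06b5040b00a025c102bc2005f1034d06132830d92100cb040ae22131d10986704c64402d9a0220e00b2c86ad0c262220214102ac6068e3003f8c015d00d148806e040a88402fc2017c5807a2ca4388013c600b0100bc2402814120030970c86b7040a48402d030d62100b2040a38402b97094c200450c356201a101028670066080538a0108d00ce6006530a349a51b0b08d02003e0c25032e588102761009b0c34c0402641027210093402479000e0d371a2947d14a43040224500a40813010018881954201064047b0c23f140128102584002e20016921938200ee2002a080398e1118308e008126080368811a84004a200242c01e861190a367e08122080308e10e8200ba3845a1000f8e0078500640811b1000e0818d430ca6100540408c8e113070c961004d1c00c0611201022c30428183138401103088218640040898400f06084231a200c21b8c6cd81021e186330801a0204382005e3142b180080400a44001829414080118a003452822284170800e8400684082418415140038204104000c200051030586102430c101000a0408104000c3080208100))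
def t1x : TN := (TN.leaf (nat_lit 0x682f7b24bb8601a0d80e09406ad203a6825d4800bf040de3c0371e01b0e80e290070b81f92315c6d12ec2096f9403281035ce87e61005588029510154e8ae5040d1b602ee425d6081a23c0673002d98016a292ed340501c4b4c4012c2009518064922b7851596081934006188023db015a8008c3c2e39e0298e0174700bd3c3f42c0278d0f80100e76896b1a1704400f2b85b85c3dbae174970fa2a809d1003a8c02c45156408173040b9040375a0b8a780840c2eda02b64102d80816b3c0409c170830fb4081660806b840350400c6605cf040b0aa8af944168081605453b08017c6013028a99040ae86173430f980815c08064240240102b6887920c2e31e021c102b0785c4600389e0218f00ae30059383c71c1e28e00d2707ac400379a01f0e254e280503003e9601ecb24fe61282282bf08013030b72081495893bac026c30f6608147080580402bd70b16480463d14182050ce00a2100a9080541a0190d250a200411802b040290b00846056a0c2d08204ec2013e1009c0c3cd0204e42012e10094080488800dc525101008d385448a499c40062300531452a0204bcd40da20580100170800b4a00961857a245268204ac200f0385480803a1015c040050400270803714159430ad06003c04091940094a00485874008031080084200bc385380c2ad02047440038300331451a02046830eaa081190802906153c30e9c08118080250c14a861452185451c52202045090a7c4873d0801f92004c30a74081111828f8c1c782006c18735040870400c8200601002c140068a48587002410026209110c145420040200091490784006c40a2e20006100028c002030a2028a0a0408186143030e16081020800384001030a0208100))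
def t2x : TN := (TN.leaf (nat_lit 0x281f7924fb8927da513ec8806a46038e601c2081bc3c05f8206edd01ae081ba889f5360306507d2413e08005c1a0374c2fbce00d68806702069100152081a370472b64f7010345093eb78055b4029c10336413d074050c20f6c9015e08194100641202b810326188cb100479e030c40116880c2381e3200f11a4bc40818238e73b602a0102f8100e808073040391b00f2f93df040bbb20204102ecb009c040ba0802c0102e6188b2201e6900f28102e20816d752e98205b0f11b2d17be641e90e0230102cc100da0806c040355c079ee416369eb12801ac102c0a96b4080688205784012e0815d0c44c9001c8102b8100cc0806482056d10120803910c1e3820560e010e303a60c1e28205590010a5807d34e469a019cf111208151400370403018076c2004f1802c9401e8a2710100bd10026120df9a0772c35490805b8402d41028e100b3080588e0e582015a40045040a19e220c20158100aa4c1cf080104600ae60064309c30402944007c583687405036027db7e761009d0409c8402682013010095080491000dc526fe1008e149b4840228102602005204097862150201082002e0c1c00204b0900941837b04095902135900f0383480803a8800a0706e03802608037880094306d4081232c01e060d941024451c3f700308e0ce8200be2001f1c1ad0e007410236200320408d0620d0102321005508029860d40102301004e080258c0ca862e52183460408a0c21103068408113080200400f460642316200c19c02043c6386c0810e0801a8400cc200621002d100060a4c5850020100270801208002452622203150800f0400704000c183170408208001c30624081030c405060c34102041000b080040400143060208100))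
def t3x : TN := (TN.leaf (nat_lit 0x691f782074410398081ca040e182070a7018a880da4c06c8a02f4a017ee80c1840668206e410366081b1040d83402c9f0170081ac8c063a037a1219ce280a530054ae0349f0157000c9040d02c2f58201dc0819a040cc820662017c6100ed780508403b1f19a8c0097886edac024e61bd2900af080758403a9c1bc828084245f2b802a041bcc48083040bd8205e4201c4f23dd7004fb401f881b6a2807708070b22f78201c0100df44662102eb93014c100dc786ea8a01bcb19aed8bbe14036a436b441bb05806e040b282058dd1b96100d36c6dbaa01a081b3a28062205cd8403402019e100ce5c6641201d4500be40c94545e3240245147249b85a4802e8a022910112880706403a0836390191a08155040aa02054c102a420dc0205de0205401029e6007a040a73236d81029a0814c0805d963a002017438c78105da02052081b2cc0c8b1c5b98205181028a81f8c106d51432904174e08142040a09a019010280a0d9e0409f8204f82014661f6a08051083270716c20813a106ca8e31791171e081380409ba802401026a08134040998204c82011010087080430402141025c10082080408401fc200fa1007c140168c00c01025410076040940401c8200e240b44040928401b0200d61006908033840198500483002f040908401801023e1005c0802d8e30d8200b2100580802b8401585003828c4a1459e04014441a962801b0408b8401246003a100471400f0e00802008620d3d1400d0204482007630c260801c88349c5165220d3110616082c8c1021a0810c0801582042c500200810a040848400881021020e150408382041820032100180800b04005020026100110800784003841a0a20c04105818204042000408100))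
def t4x : TN := (TN.leaf (nat_lit 0x381779a27b8d13da689ec304f59827a8c05d2611e830873984798c1fca611e4307f1982788c13c2609e0304ef983f78c21ba609dc3016d984768c1fb2611d83086b983f58c23aa610d4304e9980b48c23a2609d0304e7982738c059a611cc307e5980b28c2392610c82c163960b18b058a582c42c161960b08b0582591c02c7df963ef8b237a58fbc2c4dd9626e8b0572582b82c8db960ad8b236a58fb42c8d9963ec8b2362590b02c857963eb8b235a591ac2c1559646a8b2152590a82c7d3960a98b234a590a42c4d1962688b0542582a02c84f960a78b233a5909c2c7cd964668b1f32591982c84b960a58b232a590942c7c9964648b21225029028147944638a211a5028c28145944628a1f1250988284c3942618a130a51184287c1942608a130250280284bf9409f8a12fa5097c2813d9409e8a04f251078287bb9425d8a22ea51074287b99425c8a12e250270288b79441b8a1eda5096c284b59409a8a12d250268284b3942598a04ca5026428131944188a1ec250960288af944178a1eba5095c284ad940968912b248958244ab922558922aa48f54248a9924148912a2482502412792453891e9a4824c248a59241289129248248244a39209189048a48f44244a192090890482491402481f9208f89227a48f3c2449d9208e891272482382411b9240d88226a40f34208999040c88226241030207979008b88225a4102c204959008a881e5240228208939040988044a411242079190248880442410202010f90447881e3a3911c1c80d8e3c6871232389181c10b8e24587042a389141c4898e084871222382101c4878c24386041a3020c188858c3c286041231108188038a08185220a29004147818824083040208100))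
def t5x : TN := (TN.leaf (nat_lit 0x40f70403bdd01d8e19ed9806d5403a01037f499ea94070c802ee301ae780bd3c05e380302433ced00d08805b940320a0197180d6040d4ca67ae1019d01da388cf2c46370f014a780a47c05502066d9014ec95e03004fc0636410328400af24cee82064c8015c498de040c70206341031408189040c382061410304da6e208074b40270e3dc8718e38ccf31875f0102f00817784c6f8205d980102b00a83804d1c0264e0130700971cce60e63259010c61eac040b63c9b4c201b6a99b460ce88205a4e3daa719d48406c187598102c4081612d0e7820581300d6c98be080691a7accd316469eb134cd8020570700e4100cd08065200221000fe08159040ac04031c2018c08157040ab0403142018879e9208061b07ab42018459e842cc418403057436a0814e3ccc8820534e42b6680ba040a582052810292100b90805c0402d8d00be6805e3402e8c5655648ce081442cf379665b8b30da100ab48ace8205002014c0813f5c0389a02881027a0813c0409d840284201401009e30f3a9865d0c30e6100963c03e8204d8201201008f0804604022cc00606805230017986550a3aa20812d04096040200200fc0812b0803d8401e8200f20812928e9c82049c1024c1007028ea1820490102461006a08034020488200ca1006408031820480b008e0811e0408e84016893c6a4983424f199264c892a32599552cc29820460200a01004f080260204582009008114080230401141022610042080208400f8102221003a040878400e02006e41e1c20c8d906068a00621002e040858400a810214100280801282042020042081070800f8e74381020a081040800b8400541020610012080080204082001a1000c080048400181020010001))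
def tt : TN := (TN.node (TN.node (TN.node (TN.node t0x (TN.leaf (nat_lit 0))) (TN.node t4x (TN.leaf (nat_lit 0)))) (TN.node (TN.node t2x (TN.leaf (nat_lit 0))) (TN.node (TN.leaf (nat_lit 0)) (TN.leaf (nat_lit 0))))) (TN.node (TN.node (TN.node t1x (TN.leaf (nat_lit 0))) (TN.node t5x (TN.leaf (nat_lit 0)))) (TN.node (TN.node t3x (TN.leaf (nat_lit 0))) (TN.node (TN.leaf (nat_lit 0)) (TN.leaf (nat_lit 0))))))
noncomputable def T (j c : ℕ) : ℕ := getL tt (nat_lit 21) (nat_lit 255) j c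
noncomputable def E (j c : ℕ) : ℕ := getL tt (nat_lit 21) (nat_lit 0x1fffff) j c
theorem T_eq (j c : ℕ) : T j c = E j c % 256 :=
  getL_mod (a := 8) (b := 21) _ _ (by norm_num) (by norm_num) (by norm_num) (by norm_num) j c
def rels : List (List ℕ) := [[nat_lit 4, nat_lit 5, nat_lit 4, nat_lit 5], [nat_lit 4, nat_lit 3, nat_lit 4, nat_lit 3], [nat_lit 4, nat_lit 2, nat_lit 4, nat_lit 2], [nat_lit 4, nat_lit 0, nat_lit 4, nat_lit 0], [nat_lit 4, nat_lit 1, nat_lit 4, nat_lit 1], [nat_lit 5, nat_lit 3, nat_lit 5, nat_lit 3, nat_lit 5, nat_lit 3, nat_lit 5, nat_lit 3, nat_lit 5, nat_lit 3, nat_lit 5, nat_lit 3, nat_lit 5, nat_lit 3, nat_lit 5, nat_lit 3, nat_lit 5, nat_lit 3, nat_lit 5, nat_lit 3], [nat_lit 5, nat_lit 2, nat_lit 5, nat_lit 2], [nat_lit 5, nat_lit 0, nat_lit 5, nat_lit 0], [nat_lit 5, nat_lit 1, nat_lit 5, nat_lit 1], [nat_lit 3, nat_lit 2, nat_lit 3, nat_lit 2, nat_lit 3, nat_lit 2], [nat_lit 3, nat_lit 0, nat_lit 3, nat_lit 0, nat_lit 3,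 nat_lit 0], [nat_lit 3, nat_lit 1, nat_lit 3, nat_lit 1, nat_lit 3, nat_lit 1], [nat_lit 2, nat_lit 0, nat_lit 2, nat_lit 0], [nat_lit 2, nat_lit 1, nat_lit 2, nat_lit 1], [nat_lit 0, nat_lit 1, nat_lit 0, nat_lit 1, nat_lit 0, nat_lit 1, nat_lit 0, nat_lit 1], [nat_lit 2, nat_lit 1, nat_lit 0, nat_lit 1, nat_lit 0], [nat_lit 4, nat_lit 3, nat_lit 5, nat_lit 3, nat_lit 5, nat_lit 3, nat_lit 5, nat_lit 3, nat_lit 5, nat_lit 3, nat_lit 5], [nat_lit 1, nat_lit 0, nat_lit 3, nat_lit 5, nat_lit 1, nat_lit 0, nat_lit 3, nat_lit 5, nat_lit 1, nat_lit 0, nat_lit 3, nat_lit 5, nat_lit 1, nat_lit 0, nat_lit 3, nat_lit 5], [nat_lit 5, nat_lit 3, nat_lit 2, nat_lit 5, nat_lit 3, nat_lit 2, nat_lit 5, nat_lit 3, nat_lit 2, nat_lit 5, nat_lit 3, nat_lit 2, nat_lit 5, nat_lit 3, nat_lit 2]]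
def X_t : TN := (TN.leaf (nat_lit 0x38c65405bf66a06d9d93096bc1985b4c453e5a9f09f0ccfb7ab67cd8edb2c40c4135a3903c7a33134bc9a41b0924f057f1678627a0f9893d427c07e853e42f626321f9878007d97c143ea4c441f406200f9930907c8d68c3e249241f023b2))
noncomputable def X (i : ℕ) : ℕ := get9 X_t (nat_lit 29) (nat_lit 0x1fffffff) i
def Jp_t : TN := (TN.leaf (nat_lit 0x28801b330119480545c04a16018fe00d760093680499c018c300b5181021007cf20165f01a2480b0e00444402c11011000088000000000000000000000000000000000000))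
noncomputable def Jp (i : ℕ) : ℕ := get9 Jp_t (nat_lit 21) (nat_lit 0x1fffff) i
def J_t : TN := (TN.leaf (nat_lit 0x1396f7076ed1306ea35d2aa06cc802ec2b7cd0000004600000079ad000002d005098aa1a0000f84050011))
noncomputable def J (k : ℕ) : ℕ := getV J_t Jp k
def Pa_t : TN := (TN.leaf (nat_lit 0x9f0596229620961295a3849283b2cee5bd13bcc3bca3ac33ac23abf5abc2abc1abb2abb0aba2aba0ab93ab33ab13ab03aaf0aae1aac3aa95aa42aa40aa32aa31aa30aa22aa21aa03a9b5a9b2a9a3a993a983a945a942a940a935a932a93198e598d598a5989598759855982598229820981097c297c097b39793978597759772976597629760974297409732973197219720971296d296c596c296c196b196b096959662966196539633962596159611960596029601960095e295e095d295d195c595c295c195c095b295b185958585858285818575856585628560855385438533852385128510850384f384e584e384d584d384c384b584a58495849184908483847284718470846384538445843284318430842384138405840383f583f383e383d583c583b583b183b083a383928391839083838373836573537343733373237302730072f272f172e372d572c572c272c072b572b272b172a372957283727572657260725372457235723272317225722272207213720571f371e571d571d161b261b061a261a161926191619061856182618161736165616061456142614161356132613061236115611160f560f260f050e250e150e050d350c350b550b350a550a350935085508350755073406340554045404240404035403240313025302230213020201310050000))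
noncomputable def Pa (i : ℕ) : ℕ := get9 Pa_t (nat_lit 16) (nat_lit 65535) i
def W_t : TL := (TL.node (TL.node (TL.node (TL.node (TL.node (TL.node (TL.leaf [nat_lit 1, nat_lit 4, nat_lit 5, nat_lit 4, nat_lit 5]) (TL.leaf [nat_lit 30728, nat_lit 1, nat_lit 2, nat_lit 0, nat_lit 1, nat_lit 0])) (TL.leaf [nat_lit 22531, nat_lit 1, nat_lit 3, nat_lit 1, nat_lit 3, nat_lit 1, nat_lit 3])) (TL.node (TL.leaf [nat_lit 30727, nat_lit 1, nat_lit 0, nat_lit 2, nat_lit 1, nat_lit 0]) (TL.leaf [nat_lit 30725, nat_lit 0, nat_lit 1, nat_lit 0, nat_lit 2, nat_lit 1]))) (TL.node (TL.node (TL.node (TL.leaf [nat_lit 24579, nat_lit 0, nat_lit 2, nat_lit 0, nat_lit 2]) (TL.leaf [nat_lit 36870, nat_lit 5, nat_lit 2, nat_lit 3, nat_lit 5, nat_lit 2, nat_lit 3, nat_lit 5, nat_lit 2, nat_lit 3, nat_lit 5, nat_lit 2, nat_lit 3, nat_lit 5, nat_lit 2, nat_lit 3])) (TL.leaf [nat_lit 26625, nat_lit 2, nat_lit 1, nat_lit 2, nat_lit 1])) (TL.node (TL.leaf [nat_lit 34821, nat_lit 3,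 nat_lit 5, nat_lit 1, nat_lit 0, nat_lit 3, nat_lit 5, nat_lit 1, nat_lit 0, nat_lit 3, nat_lit 5, nat_lit 1, nat_lit 0, nat_lit 3, nat_lit 5, nat_lit 1, nat_lit 0]) (TL.leaf [nat_lit 12289, nat_lit 5, nat_lit 2, nat_lit 5, nat_lit 2])))) (TL.node (TL.node (TL.node (TL.node (TL.leaf [nat_lit 14339, nat_lit 0, nat_lit 5, nat_lit 0, nat_lit 5]) (TL.leaf [nat_lit 32777, nat_lit 5, nat_lit 3, nat_lit 5, nat_lit 3, nat_lit 5, nat_lit 3, nat_lit 5, nat_lit 4, nat_lit 3, nat_lit 5, nat_lit 3])) (TL.leaf [nat_lit 20483, nat_lit 0, nat_lit 3, nat_lit 0, nat_lit 3, nat_lit 0, nat_lit 3])) (TL.node (TL.leaf [nat_lit 22529, nat_lit 3, nat_lit 1, nat_lit 3, nat_lit 1, nat_lit 3, nat_lit 1]) (TL.leaf [nat_lit 30730, nat_lit 2, nat_lit 0, nat_lit 1, nat_lit 0, nat_lit 1]))) (TL.node (TL.node (TL.leaf [nat_lit 30721, nat_lit 2, nat_lit 1, nat_lit 0, nat_lit 1, nat_lit 0]) (TL.leaf [nat_lit 14337, nat_lit 5, nat_lit 0, nat_lit 5, nat_lit 0])) (TL.node (TL.leaf [nat_lit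 8193, nat_lit 4, nat_lit 1, nat_lit 4, nat_lit 1]) (TL.leaf [nat_lit 34824, nat_lit 1, nat_lit 5, nat_lit 3, nat_lit 0, nat_lit 1, nat_lit 5, nat_lit 3, nat_lit 0, nat_lit 1, nat_lit 5, nat_lit 3, nat_lit 0, nat_lit 1, nat_lit 5, nat_lit 3, nat_lit 0]))))) (TL.node (TL.node (TL.node (TL.node (TL.node (TL.leaf [nat_lit 12291, nat_lit 2, nat_lit 5, nat_lit 2, nat_lit 5]) (TL.leaf [nat_lit 32771, nat_lit 3, nat_lit 5, nat_lit 3, nat_lit 5, nat_lit 3, nat_lit 5, nat_lit 3, nat_lit 5, nat_lit 3, nat_lit 5, nat_lit 4])) (TL.leaf [nat_lit 18435, nat_lit 2, nat_lit 3, nat_lit 2, nat_lit 3, nat_lit 2, nat_lit 3])) (TL.node (TL.leaf [nat_lit 20481, nat_lit 3, nat_lit 0, nat_lit 3, nat_lit 0, nat_lit 3, nat_lit 0]) (TL.leaf [nat_lit 30729, nat_lit 0, nat_lit 2, nat_lit 1, nat_lit 0, nat_lit 1]))) (TL.node (TL.node (TL.node (TL.leaf [nat_lit 26627, nat_lit 1, nat_lit 2, nat_lit 1, nat_lit 2]) (TL.leaf [nat_lit 30726, nat_lit 0, nat_lit 1, nat_lit 2, nat_lit 0, nat_lit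 1])) (TL.leaf [nat_lit 24577, nat_lit 2, nat_lit 0, nat_lit 2, nat_lit 0])) (TL.node (TL.leaf [nat_lit 6145, nat_lit 4, nat_lit 0, nat_lit 4, nat_lit 0]) (TL.leaf [nat_lit 34820, nat_lit 3, nat_lit 0, nat_lit 1, nat_lit 5, nat_lit 3, nat_lit 0, nat_lit 1, nat_lit 5, nat_lit 3, nat_lit 0, nat_lit 1, nat_lit 5, nat_lit 3, nat_lit 0, nat_lit 1, nat_lit 5])))) (TL.node (TL.node (TL.node (TL.node (TL.leaf [nat_lit 16387, nat_lit 1, nat_lit 5, nat_lit 1, nat_lit 5]) (TL.leaf [nat_lit 36869, nat_lit 2, nat_lit 5, nat_lit 3, nat_lit 2, nat_lit 5, nat_lit 3, nat_lit 2, nat_lit 5, nat_lit 3, nat_lit 2, nat_lit 5, nat_lit 3, nat_lit 2, nat_lit 5, nat_lit 3])) (TL.leaf [nat_lit 36865, nat_lit 5, nat_lit 3, nat_lit 2, nat_lit 5, nat_lit 3, nat_lit 2, nat_lit 5, nat_lit 3, nat_lit 2, nat_lit 5, nat_lit 3, nat_lit 2, nat_lit 5, nat_lit 3, nat_lit 2])) (TL.node (TL.leaf [nat_lit 18433, nat_lit 3, nat_lit 2, nat_lit 3, nat_lit 2, nat_lit 3, nat_lit 2]) (TL.leaf [nat_lit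 32789, nat_lit 5, nat_lit 4, nat_lit 3, nat_lit 5, nat_lit 3, nat_lit 5, nat_lit 3, nat_lit 5, nat_lit 3, nat_lit 5, nat_lit 3]))) (TL.node (TL.node (TL.leaf [nat_lit 2049, nat_lit 4, nat_lit 3, nat_lit 4, nat_lit 3]) (TL.leaf [nat_lit 16385, nat_lit 5, nat_lit 1, nat_lit 5, nat_lit 1])) (TL.node (TL.leaf [nat_lit 4097, nat_lit 4, nat_lit 2, nat_lit 4, nat_lit 2]) (TL.leaf [nat_lit 34823, nat_lit 5, nat_lit 1, nat_lit 0, nat_lit 3, nat_lit 5, nat_lit 1, nat_lit 0, nat_lit 3, nat_lit 5, nat_lit 1, nat_lit 0, nat_lit 3, nat_lit 5, nat_lit 1, nat_lit 0, nat_lit 3]))))))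
noncomputable def W (i : ℕ) : List ℕ := TL.get W_t i
def WA_t : TL := (TL.node (TL.node (TL.node (TL.node (TL.leaf [nat_lit 0]) (TL.leaf [nat_lit 20481, nat_lit 6, nat_lit 3, nat_lit 0, nat_lit 3, nat_lit 0, nat_lit 3, nat_lit 0])) (TL.node (TL.leaf [nat_lit 30727, nat_lit 1, nat_lit 0, nat_lit 2, nat_lit 1, nat_lit 0]) (TL.leaf [nat_lit 0, nat_lit 6, nat_lit 2, nat_lit 6, nat_lit 2]))) (TL.node (TL.node (TL.leaf [nat_lit 12291, nat_lit 2, nat_lit 5, nat_lit 2, nat_lit 5]) (TL.leaf [nat_lit 0, nat_lit 0, nat_lit 6, nat_lit 0])) (TL.node (TL.leaf [nat_lit 0, nat_lit 2, nat_lit 6, nat_lit 2]) (TL.leaf [nat_lit 0, nat_lit 6, nat_lit 5, nat_lit 6, nat_lit 5])))) (TL.node (TL.node (TL.node (TL.leaf [nat_lit 24579, nat_lit 0, nat_lit 2, nat_lit 0, nat_lit 2]) (TL.leaf [nat_lit 0, nat_lit 3, nat_lit 6, nat_lit 3])) (TL.node (TL.leaf [nat_lit 30723, nat_lit 6, nat_lit 1, nat_lit 0, nat_lit 1, nat_lit 0, nat_lit 2]) (TL.leaf [nat_lit 0, nat_lit 6, nat_lit 0,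 nat_lit 6, nat_lit 0]))) (TL.node (TL.node (TL.leaf [nat_lit 30721, nat_lit 2, nat_lit 1, nat_lit 0, nat_lit 1, nat_lit 0]) (TL.leaf [nat_lit 0, nat_lit 6, nat_lit 1, nat_lit 6, nat_lit 1])) (TL.leaf [nat_lit 18435, nat_lit 6, nat_lit 2, nat_lit 3, nat_lit 2, nat_lit 3, nat_lit 2, nat_lit 3]))))
noncomputable def WA (i : ℕ) : List ℕ := TL.get WA_t i
noncomputable def row : ℕ → ℕ := hRow (nat_lit 239) (nat_lit 6) (nat_lit 5) (nat_lit 256) (nat_lit 128) (nat_lit 32768) (nat_lit 4096) (nat_lit 4096) (nat_lit 26) E X Pa (fun j => j) (wfun (nat_lit 38) W_t)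
noncomputable def aux : ℕ → ℕ := hAux (nat_lit 240) (nat_lit 6) (nat_lit 256) (nat_lit 32768) (nat_lit 4096) (nat_lit 32) (nat_lit 16) (nat_lit 4096) (nat_lit 26) E X J Pa (fun j => j) WA_t.get
theorem r0 : Nat.beq (rng row (nat_lit 0) (nat_lit 240)) (nat_lit 0) = true := by decide +kernel
theorem a0 : Nat.beq (rng aux (nat_lit 0) (nat_lit 26)) (nat_lit 0) = true := by decide +kernel
theorem rows : ∀ i < 240, row i = 0 := by
  have h := zero_lt_zero row
  have h := zero_lt_add (a := (nat_lit 0)) (n := (nat_lit 240)) (b := (nat_lit 240)) h r0 rfl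
  exact h
theorem auxs : ∀ i < 26, aux i = 0 := by
  have h := zero_lt_zero aux
  have h := zero_lt_add (a := (nat_lit 0)) (n := (nat_lit 26)) (b := (nat_lit 26)) h a0 rfl
  exact h
theorem closes.{u} : ClosesT.{u} (fun j => j) rels 6 5 240 T :=
  hc_closes (N1 := (nat_lit 239)) rfl T_eq (by decide +kernel) rows auxs
theorem T_inv : ∀ c < 240, ∀ j < 6, T j c < 240 ∧ T j (T j c) = c := 
  hc_inv (inv := (fun j => j)) (N1 := (nat_lit 239)) rfl T_eq rows
end L6

def rels : List (List ℕ) := [[nat_lit 4, nat_lit 6, nat_lit 4, nat_lit 6, nat_lit 4, nat_lit 6, nat_lit 4, nat_lit 6], [nat_lit 4, nat_lit 5, nat_lit 4, nat_lit 5], [nat_lit 4, nat_lit 3, nat_lit 4, nat_lit 3], [nat_lit 4, nat_lit 2, nat_lit 4, nat_lit 2], [nat_lit 4, nat_lit 0, nat_lit 4, nat_lit 0], [nat_lit 4, nat_lit 1, nat_lit 4, nat_lit 1], [nat_lit 6, nat_lit 5, nat_lit 6, nat_lit 5, nat_lit 6, nat_lit 5], [nat_lit 6, nat_lit 3, nat_lit 6, nat_lit 3], [nat_lit 6, nat_lit 2, nat_lit 6, nat_lit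 2], [nat_lit 6, nat_lit 0, nat_lit 6, nat_lit 0], [nat_lit 6, nat_lit 1, nat_lit 6, nat_lit 1], [nat_lit 5, nat_lit 3, nat_lit 5, nat_lit 3, nat_lit 5, nat_lit 3, nat_lit 5, nat_lit 3, nat_lit 5, nat_lit 3, nat_lit 5, nat_lit 3, nat_lit 5, nat_lit 3, nat_lit 5, nat_lit 3, nat_lit 5, nat_lit 3, nat_lit 5, nat_lit 3], [nat_lit 5, nat_lit 2, nat_lit 5, nat_lit 2], [nat_lit 5, nat_lit 0, nat_lit 5, nat_lit 0], [nat_lit 5, nat_lit 1, nat_lit 5, nat_lit 1], [nat_lit 3, nat_lit 2, nat_lit 3, nat_lit 2, nat_lit 3, nat_lit 2], [nat_lit 3, nat_lit 0, nat_lit 3, nat_lit 0, nat_lit 3, nat_lit 0], [nat_lit 3, nat_lit 1, nat_lit 3, nat_lit 1, nat_lit 3, nat_lit 1], [nat_lit 2, nat_lit 0, nat_lit 2, nat_lit 0], [nat_lit 2, nat_lit 1, nat_lit 2, nat_lit 1], [nat_lit 0, nat_lit 1, nat_lit 0, nat_lit 1, nat_lit 0, nat_lit 1, nat_lit 0, nat_lit 1], [nat_lit 2, nat_lit 1, nat_lit 0, nat_lit 1, nat_lit 0], [nat_lit 2, nat_lit 5, nat_lit 6, nat_lit 4, nat_lit 5, nat_lit 6,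 nat_lit 4, nat_lit 5, nat_lit 6, nat_lit 4], [nat_lit 4, nat_lit 3, nat_lit 5, nat_lit 3, nat_lit 5, nat_lit 3, nat_lit 5, nat_lit 3, nat_lit 5, nat_lit 3, nat_lit 5], [nat_lit 1, nat_lit 0, nat_lit 3, nat_lit 5, nat_lit 1, nat_lit 0, nat_lit 3, nat_lit 5, nat_lit 1, nat_lit 0, nat_lit 3, nat_lit 5, nat_lit 1, nat_lit 0, nat_lit 3, nat_lit 5]]
theorem w0 {Γ : Type} [Group Γ] {g : ℕ → Γ} (h1 : InvOK g (fun j => j) 7) (h2 : ∀ w ∈ rels, ev g w = 1) : ∀ w ∈ W0.w :: rels, ev g w = 1 :=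
  List.forall_mem_cons.mpr ⟨Subgroup.mem_bot.mp (gen_zero g ▸ W0.mem h1 fun r hr => h2 r ((by decide +kernel : ∀ r ∈ W0.rels, r ∈ rels) r hr)), h2⟩
theorem ub1 {Γ : Type} [Group Γ] {g : ℕ → Γ} (h1 : InvOK g (fun j => j) 7) (h2 : ∀ w ∈ rels, ev g w = 1) : CardLE (gen g 1) 2 :=
  tw h1 (w0 h1 h2) L1.closes (by decide +kernel) (cardLE_gen_zero g)
theorem ub2 {Γ : Type} [Group Γ] {g : ℕ → Γ} (h1 : InvOK g (fun j => j) 7) (h2 : ∀ w ∈ rels, ev g w = 1) : CardLE (gen g 2) 8 :=
  tw h1 (w0 h1 h2) L2.closes (by decide +kernel) (ub1 h1 h2)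
theorem ub3 {Γ : Type} [Group Γ] {g : ℕ → Γ} (h1 : InvOK g (fun j => j) 7) (h2 : ∀ w ∈ rels, ev g w = 1) : CardLE (gen g 3) 8 :=
  tw h1 (w0 h1 h2) L3.closes (by decide +kernel) (ub2 h1 h2)
theorem ub4 {Γ : Type} [Group Γ] {g : ℕ → Γ} (h1 : InvOK g (fun j => j) 7) (h2 : ∀ w ∈ rels, ev g w = 1) : CardLE (gen g 4) 168 :=
  tw h1 (w0 h1 h2) L4.closes (by decide +kernel) (ub3 h1 h2)
theorem ub5 {Γ : Type} [Group Γ] {g : ℕ → Γ} (h1 : InvOK g (fun j => j) 7) (h2 : ∀ w ∈ rels, ev g w = 1) : CardLE (gen g 5) 336 :=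
  tw h1 (w0 h1 h2) L5.closes (by decide +kernel) (ub4 h1 h2)
theorem ub6 {Γ : Type} [Group Γ] {g : ℕ → Γ} (h1 : InvOK g (fun j => j) 7) (h2 : ∀ w ∈ rels, ev g w = 1) : CardLE (gen g 6) 80640 :=
  tw h1 (w0 h1 h2) L6.closes (by decide +kernel) (ub5 h1 h2)
theorem ub7 {Γ : Type} [Group Γ] {g : ℕ → Γ} (h1 : InvOK g (fun j => j) 7) (h2 : ∀ w ∈ rels, ev g w = 1) : CardLE (gen g 7) 4030387200 :=
  tw h1 (w0 h1 h2) L7.closes (by decide +kernel) (ub6 h1 h2)

end Cfsg.Agent.Ct.He
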